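import Groth.Prelude.Def_AlgGrp
import Groth.Agent.S16130
import Groth.Agent.S7984
import Groth.Agent.Lib.SheafVan16.Noetherian
import Groth.Agent.Lib.GrpComp19.Basic
import Groth.Agent.Lib.OrbitTop19.Smooth
import Mathlib.AlgebraicGeometry.AlgClosed.Basic

/-!
Twisted conjugation on a smooth connected affine group with finitely many fixed points is transitive
(the part of the theorem of Lang and Steinberg needed for counting fixed points).
-/

universe u

open CategoryTheory CategoryTheory.Limits AlgebraicGeometry MonoidalCategory CartesianMonoidalCategory MonObj TopologicalSpace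

set_option backward.isDefEq.respectTransparency false
set_option backward.isDefEq.respectTransparency.types false

namespace Groth.Agent.LangFix19

variable {k : Type u} [Field k] [IsAlgClosed k]

theorem exists_point_lift {X Y : Over (Spec (CommRingCat.of k))} [LocallyOfFiniteType X.hom]
    [LocallyOfFiniteType Y.hom] (f : X ⟶ Y) (y : 𝟙_ (Over (Spec (CommRingCat.of k))) ⟶ Y)
    (h : y.left (IsLocalRing.closedPoint k) ∈ Set.range f.left.base) :
    ∃ x : 𝟙_ (Over (Spec (CommRingCat.of k))) ⟶ X, x ≫ f = y := by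
  haveI : JacobsonSpace ↥X.left := LocallyOfFiniteType.jacobsonSpace X.hom
  have hcl : IsClosed ({y.left (IsLocalRing.closedPoint k)} : Set Y.left) :=
    (pointEquivClosedPoint Y.hom ⟨y.left, Over.w y⟩).2
  obtain ⟨v, hv⟩ := h
  obtain ⟨p, hp, hpc⟩ := nonempty_inter_closedPoints (Z := f.left.base ⁻¹' {y.left (IsLocalRing.closedPoint k)})
    ⟨v, hv⟩ (hcl.preimage f.left.continuous).isLocallyClosed
  let x : 𝟙_ (Over (Spec (CommRingCat.of k))) ⟶ X :=
    Over.homMk (pointOfClosedPoint X.hom p hpc) (pointOfClosedPoint_comp _ _ _)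
  refine ⟨x, ?_⟩
  ext : 1
  refine ext_of_apply_closedPoint_eq Y.hom (Over.w (x ≫ f)) (Over.w y) ?_
  show f.left (pointOfClosedPoint X.hom p hpc (IsLocalRing.closedPoint k)) = _
  rw [pointOfClosedPoint_apply]
  exact hp

variable {H : Over (Spec (CommRingCat.of k))} [GrpObj H]

/-- twisted conjugation `h · y = h y τ(h)⁻¹` -/
noncomputable def twistAct (τ : H ⟶ H) [IsMonHom τ] : AlgGrp.Action H H where
  act := fst H H * snd H H * (fst H H ≫ τ)⁻¹
  one_act := by
    have e : (η[H] ▷ H) ≫ fst H H = (1 : _ ⟶ H) := by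
      rw [whiskerRight_fst, Hom.one_def, toUnit_unique (fst (𝟙_ _) H) (toUnit _)]
    rw [MonObj.comp_mul, MonObj.comp_mul, GrpObj.comp_inv, ← Category.assoc, e, whiskerRight_snd,
      MonObj.one_comp, _root_.inv_one, _root_.one_mul, _root_.mul_one, leftUnitor_hom]
  mul_act := by
    refine AlgGrp.Action.hom_ext_lift₃ fun T a b c => ?_
    simp only [lift_whiskerRight_assoc, lift_lift_associator_hom_assoc, lift_whiskerLeft_assoc,
      MonObj.comp_mul, GrpObj.comp_inv, lift_fst, lift_snd, lift_fst_assoc]
    rw [← Hom.mul_def, MonObj.mul_comp, _root_.mul_inv_rev]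
    simp only [_root_.mul_assoc]

theorem twistAct_orbitMap_pt (τ : H ⟶ H) [IsMonHom τ] {T : Over (Spec (CommRingCat.of k))} (g : T ⟶ H)
    (y : 𝟙_ (Over (Spec (CommRingCat.of k))) ⟶ H) :
    g ≫ (twistAct τ).orbitMap y = g * (toUnit T ≫ y) * (g ≫ τ)⁻¹ := by
  show g ≫ lift (𝟙 H) (toUnit H ≫ y) ≫ (fst H H * snd H H * (fst H H ≫ τ)⁻¹) = _
  rw [comp_lift_assoc, Category.comp_id, comp_toUnit_assoc, MonObj.comp_mul, MonObj.comp_mul, GrpObj.comp_inv,
    lift_fst, lift_snd, lift_fst_assoc]

variable [IsAffine H.left] [Smooth H.hom] [ConnectedSpace ↥H.left]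

theorem exists_nat_dim : ∃ n : ℕ, topologicalKrullDim ↥H.left ≤ n := by
  let φ : k →+* Γ(H.left, ⊤) := ((Scheme.ΓSpecIso (CommRingCat.of k)).inv ≫ H.hom.appTop).hom
  algebraize [φ]
  haveI : Algebra.FiniteType k Γ(H.left, ⊤) := by
    have hφ : φ.FiniteType := by
      have h1 : H.hom.appTop.hom.FiniteType := HasRingHomProperty.appTop (P := @LocallyOfFiniteType) H.hom inferInstance
      exact h1.comp (RingHom.FiniteType.of_surjective _
        ((Scheme.ΓSpecIso (CommRingCat.of k)).commRingCatIsoToRingEquiv.symm.surjective))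
    exact hφ
  obtain ⟨m, f, hf⟩ := Algebra.FiniteType.iff_quotient_mvPolynomial''.1 (inferInstance : Algebra.FiniteType k Γ(H.left, ⊤))
  refine ⟨m, ?_⟩
  rw [IsHomeomorph.topologicalKrullDim_eq _ H.left.isoSpec.hom.homeomorph.isHomeomorph]
  change topologicalKrullDim (PrimeSpectrum Γ(H.left, ⊤)) ≤ _
  rw [PrimeSpectrum.topologicalKrullDim_eq_ringKrullDim]
  refine (ringKrullDim_le_of_surjective f.toRingHom hf).trans ?_
  simp [MvPolynomial.ringKrullDim_of_isNoetherianRing, ringKrullDim_eq_zero_of_field]

theorem isOpen_range_orbit (τ : H ⟶ H) [IsMonHom τ] (y : 𝟙_ (Over (Spec (CommRingCat.of k))) ⟶ H)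
    (hfin : Finite {h : 𝟙_ (Over (Spec (CommRingCat.of k))) ⟶ H // h * y * (h ≫ τ)⁻¹ = y}) :
    IsOpen (Set.range ((twistAct τ).orbitMap y).left.base) := by
  haveI : IsReduced H.left := OrbitTop19.isReduced_of_smooth H.hom
  haveI : QuasiCompact H.hom := inferInstance
  haveI : IsSeparated H.hom := inferInstance
  haveI : IrreducibleSpace ↥H.left := GrpComp19.irreducibleSpace H
  set a := twistAct τ
  set q := a.orbitMap y with hq
  -- the stabilizer is finite
  let P := Limits.pullback q.left y.left
  haveI : IsClosedImmersion y.left := isClosedImmersion_of_comp_eq_id H.hom y.left (Over.w y)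
  haveI : LocallyOfFiniteType (pullback.fst q.left y.left ≫ H.hom) := inferInstance
  haveI : JacobsonSpace ↥P := LocallyOfFiniteType.jacobsonSpace (pullback.fst q.left y.left ≫ H.hom)
  have hPfin : (closedPoints ↥P).Finite := by
    let S := {h : 𝟙_ (Over (Spec (CommRingCat.of k))) ⟶ H // h * y * (h ≫ τ)⁻¹ = y}
    let F : S → H.left := fun h => h.1.left (IsLocalRing.closedPoint k)
    have hsub : (pullback.fst q.left y.left).base '' closedPoints ↥P ⊆ Set.range F := by
      rintro _ ⟨z, hz, rfl⟩
      have hzc : IsClosed ({(pullback.fst q.left y.left) z} : Set H.left) := by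
        have := (pullback.fst q.left y.left).isClosedEmbedding.isClosedMap _ hz
        rwa [Set.image_singleton] at this
      let h : 𝟙_ (Over (Spec (CommRingCat.of k))) ⟶ H :=
        Over.homMk (pointOfClosedPoint H.hom _ hzc) (pointOfClosedPoint_comp _ _ _)
      have hh : h ≫ q = y := by
        ext : 1
        refine ext_of_apply_closedPoint_eq H.hom (Over.w (h ≫ q)) (Over.w y) ?_
        show q.left (pointOfClosedPoint H.hom _ hzc (IsLocalRing.closedPoint k)) = _
        rw [pointOfClosedPoint_apply, ← Scheme.Hom.comp_apply, pullback.condition, Scheme.Hom.comp_apply]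
        exact congrArg y.left (Subsingleton.elim (α := PrimeSpectrum k) _ _)
      rw [hq, twistAct_orbitMap_pt, toUnit_unique (toUnit _) (𝟙 _), Category.id_comp] at hh
      exact ⟨⟨h, hh⟩, pointOfClosedPoint_apply _ _ _ _⟩
    exact Set.Finite.of_finite_image ((Set.finite_range F).subset hsub)
      (pullback.fst q.left y.left).isClosedEmbedding.injective.injOn
  haveI : DiscreteTopology ↥P := JacobsonSpace.discreteTopology hPfin
  haveI : Nonempty ↥P := by
    have e : q.left ((η[H]).left (IsLocalRing.closedPoint k)) = y.left (IsLocalRing.closedPoint k) := by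
      have h1 : η[H] ≫ q = y := by
        rw [hq, twistAct_orbitMap_pt, toUnit_unique (toUnit _) (𝟙 _), Category.id_comp,
          show η[H] = (1 : 𝟙_ _ ⟶ H) by rw [Hom.one_def, toUnit_unique (toUnit _) (𝟙 _), Category.id_comp],
          MonObj.one_comp, _root_.inv_one, _root_.one_mul, _root_.mul_one]
      exact congrArg (fun z => z.left (IsLocalRing.closedPoint k)) h1
    obtain ⟨z, -, -⟩ := Scheme.Pullback.exists_preimage_pullback (f := q.left) (g := y.left) _ _ e
    exact ⟨z⟩
  have hdim : topologicalKrullDim ↥H.left = topologicalKrullDim ↥(Set.range q.left.base) := by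
    have h0 : topologicalKrullDim ↥P = 0 := le_antisymm (topologicalKrullDim_zero_of_discreteTopology _) (by
      haveI : Nonempty (IrreducibleCloseds ↥P) := ⟨⟨closure {Classical.arbitrary ↥P}, isIrreducible_singleton.closure, isClosed_closure⟩⟩
      exact Order.krullDim_nonneg)
    rw [Groth.Agent.S16130.result k H H a y, h0, add_zero]
  -- hence the orbit is dense
  have hdense : closure (Set.range q.left.base) = Set.univ := by
    by_contra hne
    obtain ⟨n, hn⟩ := exists_nat_dim (H := H)
    let d : Closeds ↥H.left := ⟨closure (Set.range q.left.base), isClosed_closure⟩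
    have hlt : d < ⊤ := lt_top_iff_ne_top.2 fun e => hne (congrArg (fun c : Closeds ↥H.left => (c : Set H.left)) e)
    have hirr : IsIrreducible ((⊤ : Closeds ↥H.left) : Set H.left) := IrreducibleSpace.isIrreducible_univ _
    have key : ∀ n : ℕ, topologicalKrullDim ↥H.left ≤ n → False := by
      intro n
      induction n with
      | zero =>
        intro hn
        have := (SheafVan16.dim_lt hirr hlt (n := 0) (by
          refine le_trans (le_of_eq ?_) hn
          exact IsHomeomorph.topologicalKrullDim_eq _ (Homeomorph.Set.univ _).isHomeomorph)).1 rfl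
        have h1 : ((η[H] ≫ q).left (IsLocalRing.closedPoint k)) ∈ closure (Set.range q.left.base) :=
          subset_closure ⟨(η[H]).left (IsLocalRing.closedPoint k), rfl⟩
        have h2 : (η[H] ≫ q).left (IsLocalRing.closedPoint k) ∈ (d : Set H.left) := h1
        rw [this] at h2
        exact h2
      | succ m ih =>
        intro hn
        have h2 := (SheafVan16.dim_lt hirr hlt (n := m + 1) (by
          refine le_trans (le_of_eq ?_) hn
          exact IsHomeomorph.topologicalKrullDim_eq _ (Homeomorph.Set.univ _).isHomeomorph)).2 m rfl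
        refine ih (hdim.trans_le (le_trans ?_ h2))
        exact (Topology.IsEmbedding.inclusion subset_closure).isInducing.topologicalKrullDim_le
    exact key n hn
  have hlc := Groth.Agent.S7984.result k H H a y
  have := coborder_inter_closure (s := Set.range q.left.base)
  rw [hdense, Set.inter_univ] at this
  rw [← this]
  exact hlc.isOpen_coborder

theorem exists_eq_mul_inv (τ : H ⟶ H) [IsMonHom τ] (y : 𝟙_ (Over (Spec (CommRingCat.of k))) ⟶ H)
    (hfin : Finite {h : 𝟙_ (Over (Spec (CommRingCat.of k))) ⟶ H // h * y * (h ≫ τ)⁻¹ = y})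
    (hfin1 : Finite {h : 𝟙_ (Over (Spec (CommRingCat.of k))) ⟶ H // h * 1 * (h ≫ τ)⁻¹ = 1}) :
    ∃ c : 𝟙_ (Over (Spec (CommRingCat.of k))) ⟶ H, y = c * (c ≫ τ)⁻¹ := by
  haveI : IrreducibleSpace ↥H.left := GrpComp19.irreducibleSpace H
  haveI : JacobsonSpace ↥H.left := LocallyOfFiniteType.jacobsonSpace H.hom
  have hne : ∀ z, (Set.range ((twistAct τ).orbitMap z).left.base).Nonempty :=
    fun z => ⟨_, (η[H]).left (IsLocalRing.closedPoint k), rfl⟩
  have h0 := nonempty_preirreducible_inter (isOpen_range_orbit τ y hfin) (isOpen_range_orbit τ 1 hfin1) (hne y) (hne 1)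
  obtain ⟨p, ⟨hp1, hp2⟩, hpc⟩ := nonempty_inter_closedPoints h0
    ((isOpen_range_orbit τ y hfin).inter (isOpen_range_orbit τ 1 hfin1)).isLocallyClosed
  let z : 𝟙_ (Over (Spec (CommRingCat.of k))) ⟶ H :=
    Over.homMk (pointOfClosedPoint H.hom p hpc) (pointOfClosedPoint_comp _ _ _)
  have hz : z.left (IsLocalRing.closedPoint k) = p := pointOfClosedPoint_apply _ _ _ _
  obtain ⟨h, hh⟩ := exists_point_lift ((twistAct τ).orbitMap y) z (by rw [hz]; exact hp1)
  obtain ⟨h', hh'⟩ := exists_point_lift ((twistAct τ).orbitMap 1) z (by rw [hz]; exact hp2)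
  rw [twistAct_orbitMap_pt, toUnit_unique (toUnit _) (𝟙 _), Category.id_comp] at hh hh'
  refine ⟨h⁻¹ * h', ?_⟩
  rw [MonObj.mul_comp, GrpObj.inv_comp, _root_.mul_inv_rev, _root_.inv_inv]
  calc y = h⁻¹ * (h * y * (h ≫ τ)⁻¹) * (h ≫ τ) := by group
    _ = _ := by rw [hh, ← hh']; group

end Groth.Agent.LangFix19
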